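import Cfsg.Agent.Lib.Helper29.M22B.NR7
import Cfsg.Agent.Lib.Helper62.M22BPow

/-!
# Class `7A` of `M24` (for S5006, hedge for helper90)

For `g7 = m4P * s11P` (cycle type `1^3 7^3`, fixed points `∞, 0, 8`):
* an element of `M24` commuting with `g7` permutes `∞, 0, 8` and is determined by these images
  and the images of `1, 2, 9`; one octad test leaves `42` triples, two more tests pin down the
  action on the fixed points: `|C_{M24}(g7)| ≤ 42`;
* no element of `M24` inverts `g7` (one octad test kills all `24^3` triples);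
* `w3 * g7 * w3⁻¹ = g7 ^ 2`.
-/

set_option autoImplicit false

namespace Cfsg.Agent.Lib.Helper29.M24B
open Cfsg Cfsg.Agent.Lib.Helper7 Cfsg.Agent.Lib.Helper92 Cfsg.Agent.Lib.Helper92.SylM22
open Cfsg.Agent.Lib.Helper29.M22B

/-- The candidate on the moved points, for the index action `f` (`fG` or `fH`). -/
def candM (f : ℕ → ℕ) (a b c : ℕ) (i : ℕ) : ℕ :=
  f^[(dlog7.getD i (0, 0)).1] ([a, b, c].getD (dlog7.getD i (0, 0)).2 0)

/-- Test octads: `A` (commuting case, stage 1), `N` (inverting case), `B`, `C` (stage 2). -/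
def tPtsA : List ℕ := [1, 5, 7, 10, 12, 15, 20, 22]
def tMaskA : ℕ := 0x5094a2
def tPtsN : List ℕ := [1, 4, 11, 13, 14, 16, 20, 21]
def tMaskN : ℕ := 0x316812
def tPtsB : List ℕ := [0, 1, 2, 6, 7, 19, 21, 23]
def tMaskB : ℕ := 0xa800c7
def tPtsC : List ℕ := [1, 8, 10, 15, 16, 18, 22, 23]
def tMaskC : ℕ := 0xc58502

theorem tMaskA_spec : ∀ i < 24, tMaskA.testBit i = true ↔ i ∈ tPtsA := by decide
theorem tMaskN_spec : ∀ i < 24, tMaskN.testBit i = true ↔ i ∈ tPtsN := by decide
theorem tMaskB_spec : ∀ i < 24, tMaskB.testBit i = true ↔ i ∈ tPtsB := by decide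
theorem tMaskC_spec : ∀ i < 24, tMaskC.testBit i = true ↔ i ∈ tPtsC := by decide
theorem tPtsA_lt : ∀ i ∈ tPtsA, i < 24 := by decide
theorem tPtsN_lt : ∀ i ∈ tPtsN, i < 24 := by decide
theorem tPtsB_lt : ∀ i ∈ tPtsB, i < 24 := by decide
theorem tPtsC_lt : ∀ i ∈ tPtsC, i < 24 := by decide
theorem tPtsA_moved : ∀ i ∈ tPtsA, i ≠ 23 ∧ i ≠ 0 ∧ i ≠ 8 := by decide
theorem tPtsN_moved : ∀ i ∈ tPtsN, i ≠ 23 ∧ i ≠ 0 ∧ i ≠ 8 := by decide
theorem isOctadMask_tMaskA : isOctadMask tMaskA = true := by decide +kernel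
theorem isOctadMask_tMaskN : isOctadMask tMaskN = true := by decide +kernel
theorem isOctadMask_tMaskB : isOctadMask tMaskB = true := by decide +kernel
theorem isOctadMask_tMaskC : isOctadMask tMaskC = true := by decide +kernel

/-- Stage 1: the triples passing the octad test `A`. -/
def passA : List (ℕ × ℕ × ℕ) :=
  (List.range 24).flatMap fun a =>
    (List.range 24).flatMap fun b =>
      (List.range 24).filterMap fun c =>
        if isOctadMask (imgList (candM fG a b c) tPtsA) = true then some (a, b, c) else none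

theorem mem_passA {a b c : ℕ} (ha : a < 24) (hb : b < 24) (hc : c < 24)
    (ht : isOctadMask (imgList (candM fG a b c) tPtsA) = true) : (a, b, c) ∈ passA := by
  unfold passA
  rw [List.mem_flatMap]
  refine ⟨a, List.mem_range.mpr ha, ?_⟩
  rw [List.mem_flatMap]
  refine ⟨b, List.mem_range.mpr hb, ?_⟩
  rw [List.mem_filterMap]
  refine ⟨c, List.mem_range.mpr hc, ?_⟩
  rw [if_pos ht]

/-- The full candidate: images `p, q, r` of `∞, 0, 8` and `a, b, c` of `1, 2, 9`. -/
def cand6 (x : ℕ × ℕ × ℕ) (y : ℕ × ℕ × ℕ) (i : ℕ) : ℕ :=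
  if i = 23 then y.1 else if i = 0 then y.2.1 else if i = 8 then y.2.2 else
    candM fG x.1 x.2.1 x.2.2 i

/-- Stage 2 test. -/
def test6 (x : ℕ × ℕ × ℕ) (y : ℕ × ℕ × ℕ) : Bool :=
  isOctadMask (imgList (cand6 x y) tPtsB) && isOctadMask (imgList (cand6 x y) tPtsC)

/-- The three fixed points. -/
def fix3 : List ℕ := [23, 0, 8]

/-- Stage 2: the surviving candidates. -/
def pass6 : List ((ℕ × ℕ × ℕ) × (ℕ × ℕ × ℕ)) :=
  passA.flatMap fun x =>
    fix3.flatMap fun p =>
      fix3.flatMap fun q =>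
        fix3.filterMap fun r => if test6 x (p, q, r) = true then some (x, (p, q, r)) else none

theorem mem_pass6 {x : ℕ × ℕ × ℕ} {p q r : ℕ} (hx : x ∈ passA) (hp : p ∈ fix3) (hq : q ∈ fix3)
    (hr : r ∈ fix3) (ht : test6 x (p, q, r) = true) : (x, (p, q, r)) ∈ pass6 := by
  unfold pass6
  rw [List.mem_flatMap]
  refine ⟨x, hx, ?_⟩
  rw [List.mem_flatMap]
  refine ⟨p, hp, ?_⟩
  rw [List.mem_flatMap]
  refine ⟨q, hq, ?_⟩
  rw [List.mem_filterMap]
  refine ⟨r, hr, ?_⟩
  rw [if_pos ht]

theorem pass6_length : pass6.length = 42 := by decide +kernel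

/-- Inverting case: no triple passes the octad test `N`. -/
theorem testN_M24_false : ∀ a < 24, ∀ b < 24, ∀ c < 24,
    isOctadMask (imgList (candM fH a b c) tPtsN) = false := by decide +kernel

/-- On the moved points an element commuting with `g7` is given by `candM fG`. -/
theorem idxFun_eq_candM {g : Equiv.Perm GolayPt} (h : g * g7 = g7 * g) :
    ∀ i < 24, i ≠ 23 → i ≠ 0 → i ≠ 8 →
      idxFun g i = candM fG (idxFun g 1) (idxFun g 2) (idxFun g 9) i := by
  intro i hi c23 c0 c8
  unfold candM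
  obtain ⟨hd, hm⟩ := dlog7_spec i hi c23 c0 c8
  generalize dlog7.getD i (0, 0) = jm at hd hm
  obtain ⟨j, m⟩ := jm
  simp only at hd hm ⊢
  interval_cases m
  · simp only [List.getD_cons_zero] at hd ⊢
    rw [← idxFun_iter7 h j 1 (by decide), hd]
  · simp only [List.getD_cons_succ, List.getD_cons_zero] at hd ⊢
    rw [← idxFun_iter7 h j 2 (by decide), hd]
  · simp only [List.getD_cons_succ, List.getD_cons_zero] at hd ⊢
    rw [← idxFun_iter7 h j 9 (by decide), hd]

/-- On the moved points an element inverting `g7` is given by `candM fH`. -/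
theorem idxFun_eq_candM_inv {g : Equiv.Perm GolayPt} (h : g * g7 = g7⁻¹ * g) :
    ∀ i < 24, i ≠ 23 → i ≠ 0 → i ≠ 8 →
      idxFun g i = candM fH (idxFun g 1) (idxFun g 2) (idxFun g 9) i := by
  intro i hi c23 c0 c8
  unfold candM
  obtain ⟨hd, hm⟩ := dlog7_spec i hi c23 c0 c8
  generalize dlog7.getD i (0, 0) = jm at hd hm
  obtain ⟨j, m⟩ := jm
  simp only at hd hm ⊢
  interval_cases m
  · simp only [List.getD_cons_zero] at hd ⊢
    rw [← idxFun_iterN h j 1 (by decide), hd]
  · simp only [List.getD_cons_succ, List.getD_cons_zero] at hd ⊢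
    rw [← idxFun_iterN h j 2 (by decide), hd]
  · simp only [List.getD_cons_succ, List.getD_cons_zero] at hd ⊢
    rw [← idxFun_iterN h j 9 (by decide), hd]

/-- No element of `M24` inverts `g7`. -/
theorem no_invert_g7_M24 (g : Equiv.Perm GolayPt) (hg : g ∈ M24) (hc : g * g7 = g7⁻¹ * g) :
    False := by
  have hcand := idxFun_eq_candM_inv hc
  have ht : isOctadMask (imgList (candM fH (idxFun g 1) (idxFun g 2) (idxFun g 9)) tPtsN)
      = true := by
    rw [← imgList_congr (F := idxFun g) (fun i hi => hcand i (tPtsN_lt i hi)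
      (tPtsN_moved i hi).1 (tPtsN_moved i hi).2.1 (tPtsN_moved i hi).2.2)]
    exact isOctadMask_imgList hg tPtsN tMaskN tPtsN_lt tMaskN_spec isOctadMask_tMaskN
  rw [testN_M24_false _ (idxFun_lt g 1) _ (idxFun_lt g 2) _ (idxFun_lt g 9)] at ht
  exact Bool.false_ne_true ht

/-- An element commuting with `g7` permutes the fixed points of `g7`. -/
theorem idxFun_fixed_mem {g : Equiv.Perm GolayPt} (h : g * g7 = g7 * g) {v : ℕ} (hv : v ∈ fix3) :
    idxFun g v ∈ fix3 := by
  have hv24 : v < 24 := by revert v; decide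
  have hfv : fG v = v := by revert v; decide
  have h1 := idxFun_rel7 h v hv24
  rw [hfv] at h1
  rcases fG_fixed _ (idxFun_lt g v) h1.symm with h3 | h3 | h3 <;> rw [h3] <;> decide

/-- The tuple of parameters of an element. -/
noncomputable def params (g : Equiv.Perm GolayPt) : (ℕ × ℕ × ℕ) × (ℕ × ℕ × ℕ) :=
  ((idxFun g 1, idxFun g 2, idxFun g 9), (idxFun g 23, idxFun g 0, idxFun g 8))

theorem idxFun_eq_cand6 {g : Equiv.Perm GolayPt} (h : g * g7 = g7 * g) :
    ∀ i < 24, idxFun g i = cand6 (params g).1 (params g).2 i := by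
  intro i hi
  unfold cand6 params
  by_cases c23 : i = 23
  · subst c23; rw [if_pos rfl]
  · rw [if_neg c23]
    by_cases c0 : i = 0
    · subst c0; rw [if_pos rfl]
    · rw [if_neg c0]
      by_cases c8 : i = 8
      · subst c8; rw [if_pos rfl]
      · rw [if_neg c8]
        exact idxFun_eq_candM h i hi c23 c0 c8

theorem params_mem {g : Equiv.Perm GolayPt} (hg : g ∈ M24) (h : g * g7 = g7 * g) :
    params g ∈ pass6 := by
  have hcand := idxFun_eq_candM h
  have hcand6 := idxFun_eq_cand6 h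
  have hA : ((params g).1) ∈ passA := by
    apply mem_passA (idxFun_lt g 1) (idxFun_lt g 2) (idxFun_lt g 9)
    show isOctadMask (imgList (candM fG (idxFun g 1) (idxFun g 2) (idxFun g 9)) tPtsA) = true
    rw [← imgList_congr (F := idxFun g) (fun i hi => hcand i (tPtsA_lt i hi)
      (tPtsA_moved i hi).1 (tPtsA_moved i hi).2.1 (tPtsA_moved i hi).2.2)]
    exact isOctadMask_imgList hg tPtsA tMaskA tPtsA_lt tMaskA_spec isOctadMask_tMaskA
  have ht : test6 (params g).1 (params g).2 = true := by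
    unfold test6
    rw [Bool.and_eq_true]
    constructor
    · rw [← imgList_congr (F := idxFun g) (fun i hi => hcand6 i (tPtsB_lt i hi))]
      exact isOctadMask_imgList hg tPtsB tMaskB tPtsB_lt tMaskB_spec isOctadMask_tMaskB
    · rw [← imgList_congr (F := idxFun g) (fun i hi => hcand6 i (tPtsC_lt i hi))]
      exact isOctadMask_imgList hg tPtsC tMaskC tPtsC_lt tMaskC_spec isOctadMask_tMaskC
  exact mem_pass6 hA (idxFun_fixed_mem h (by decide)) (idxFun_fixed_mem h (by decide))
    (idxFun_fixed_mem h (by decide)) ht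

theorem params_injOn {g g' : Equiv.Perm GolayPt} (h : g * g7 = g7 * g) (h' : g' * g7 = g7 * g')
    (hp : params g = params g') : g = g' := by
  apply eq_of_idxFun_eq
  intro i hi
  rw [idxFun_eq_cand6 h i hi, idxFun_eq_cand6 h' i hi, hp]

theorem g7_mem_M24 : g7 ∈ M24 := (mem_M22.mp g7_mem).1
theorem w3_mem_M24 : w3 ∈ M24 := (mem_M22.mp w3_mem).1

/-- `g7` as an element of `M24`. -/
noncomputable def g7M : ↥M24 := ⟨g7, g7_mem_M24⟩

theorem orderOf_g7M : orderOf g7M = 7 := by
  unfold g7M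
  rw [Subgroup.orderOf_mk]
  exact orderOf_ms

/-- `|C_{M24}(g7)| ≤ 42`. -/
theorem card_centralizer_g7M_le :
    Nat.card (Subgroup.centralizer ({g7M} : Set ↥M24)) ≤ 42 := by
  classical
  have hcomm : ∀ c : Subgroup.centralizer ({g7M} : Set ↥M24),
      ((c : ↥M24) : Equiv.Perm GolayPt) * g7 = g7 * ((c : ↥M24) : Equiv.Perm GolayPt) := by
    intro c
    have hc := Subgroup.mem_centralizer_singleton_iff.mp c.2
    have := congrArg Subtype.val hc
    simpa [g7M] using this
  let f : Subgroup.centralizer ({g7M} : Set ↥M24) → ↥(pass6.toFinset) :=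
    fun c => ⟨params ((c : ↥M24) : Equiv.Perm GolayPt),
      List.mem_toFinset.mpr (params_mem c.1.2 (hcomm c))⟩
  have hf : Function.Injective f := by
    intro a b hab
    apply Subtype.ext
    apply Subtype.ext
    have h1 : params ((a : ↥M24) : Equiv.Perm GolayPt) = params ((b : ↥M24) : Equiv.Perm GolayPt) :=
      congrArg Subtype.val hab
    exact params_injOn (hcomm a) (hcomm b) h1
  calc Nat.card (Subgroup.centralizer ({g7M} : Set ↥M24))
      ≤ Nat.card ↥(pass6.toFinset) := Nat.card_le_card_of_injective f hf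
    _ = pass6.toFinset.card := by rw [Nat.card_eq_fintype_card, Fintype.card_coe]
    _ ≤ pass6.length := List.toFinset_card_le _
    _ = 42 := pass6_length

theorem isConj_g7M_sq : IsConj g7M (g7M ^ 2) := by
  rw [isConj_iff]
  refine ⟨⟨w3, w3_mem_M24⟩, Subtype.ext ?_⟩
  have := Cfsg.Agent.Lib.Helper62.M22BPow.conj_of_tbl matches_w3 matches_g7 1 1 2
    (by decide +kernel)
  simpa [g7M] using this

theorem not_isConj_g7M_inv : ¬ IsConj g7M g7M⁻¹ := by
  rw [isConj_iff]
  rintro ⟨c, hc⟩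
  apply no_invert_g7_M24 c.1 c.2
  have h1 : (c : Equiv.Perm GolayPt) * g7 * (c : Equiv.Perm GolayPt)⁻¹ = g7⁻¹ := by
    have := congrArg Subtype.val hc
    simpa [g7M] using this
  rw [← h1]
  group

/-- The class-7 data of `M24` needed by `Helper82.OneBlock.sameBlock_244823040`. -/
theorem class7_M24 : ∃ g : ↥M24, orderOf g = 7 ∧
    Nat.card (Subgroup.centralizer ({g} : Set ↥M24)) ≤ 42 ∧ IsConj g (g ^ 2) ∧ ¬ IsConj g g⁻¹ :=
  ⟨g7M, orderOf_g7M, card_centralizer_g7M_le, isConj_g7M_sq, not_isConj_g7M_inv⟩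

end Cfsg.Agent.Lib.Helper29.M24B
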